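import Cfsg.Agent.Lib.H6.L37.TC2.Rows0

set_option autoImplicit false
set_option maxRecDepth 1000000

/-! # final table of K1 (generated) -/

namespace Cfsg.Agent.Lib.H6.L37.TC2

open Cfsg.Agent.Lib.H17.CosetCert Cfsg.Agent.Lib.H6.TC

/-- all row chunks -/
def rowsAll : List (List ℕ) := [rows0]

/-- all rows -/
def rows : List ℕ := rowsAll.flatten

set_option maxHeartbeats 0 in
theorem mask_ok : maskOf 2048 rows 0 = mask := by
  decide +kernel

set_option maxHeartbeats 0 in
theorem rows_length : rows.length = 672 := by
  decide +kernel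

theorem mask_zero : tb mask 0 = true := by
  decide +kernel

theorem rows_chk : ∀ L ∈ rowsAll, checkRows F iv 5 2048 1680 mask L = true := by
  intro L hL
  simp only [rowsAll, List.mem_cons, List.not_mem_nil, or_false] at hL
  rcases hL with rfl
  · exact rchk0

end Cfsg.Agent.Lib.H6.L37.TC2
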