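import Cfsg.Agent.Lib.H6.L37.TC2.Part0
import Cfsg.Agent.Lib.H6.L37.TC2.Rows

set_option autoImplicit false
set_option maxRecDepth 1000000

/-! # the certified enumeration of K1 (generated) -/

namespace Cfsg.Agent.Lib.H6.L37.TC2

open Cfsg.Agent.Lib.H17.CosetCert Cfsg.Agent.Lib.H6.TC

/-- every transitive action in which the relator words act trivially and the subgroup words fix the base point has at most 672 points -/
theorem bound {G Q : Type} [Group G] [MulAction G Q] [MulAction.IsPretransitive G Q] (γ : ℕ → G)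
    (hiv : ∀ x < 5, γ (iv x) = (γ x)⁻¹) (q0 : Q) (hw : WordsOK γ q0 words)
    (hgen : Subgroup.closure {g : G | ∃ x < 5, g = γ x} = ⊤) : Finite Q ∧ Nat.card Q ≤ 672 := by
  have h0 := inv_zero F 5 γ q0
  have h1 := part0 γ hiv q0 hw h0
  have hm : ∀ j, tb mask j = true → ∃ r ∈ rows, Nat.mod r 2048 = j := by
    intro j hj
    rw [← mask_ok] at hj
    rcases tb_maskOf 2048 rows 0 j hj with h | h
    · rw [tb_eq_testBit, Nat.zero_testBit] at h
      exact absurd h (by simp)
    · exact h
  have := card_le F iv 5 2048 γ hiv q0 1680 672 h1 rows mask hm mask_zero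
    (checkRows_of_forall F iv 5 2048 1680 mask rowsAll rows_chk) hgen
  rw [rows_length] at this
  exact this

end Cfsg.Agent.Lib.H6.L37.TC2
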