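import Cfsg.Agent.Lib.H6.L37.TC2.Facts

set_option autoImplicit false
set_option maxRecDepth 1000000

/-! # mask of live nodes of K1 (generated) -/

namespace Cfsg.Agent.Lib.H6.L37.TC2

open Cfsg.Agent.Lib.H17.CosetCert Cfsg.Agent.Lib.H6.TC

/-- bit mask of the live nodes -/
def mask : ℕ := 0xffffffffffffffffffffffffffffffffffffffffffffffffffffffffffffffffffffffffffffffffffffffffffffffffffffffffffffffffffffffffffffffffffffffffffffffffffffffffffffffffffffffff

end Cfsg.Agent.Lib.H6.L37.TC2
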